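/-
Arithmetic of the candidate centralizers of an involution in a group of Held type:
extensions of an extraspecial group of order `2 ^ 7` by a group of order `168`, given by tables.
-/
import Cfsg.Agent.Lib.Spor.TC.Action

set_option autoImplicit false

namespace CfsgLib.Spor.HeldRecog

open CfsgLib.Spor.TC

/-- The parity of a number below eight. -/
noncomputable def par3 (k : ℕ) : ℕ := Nat.land (Nat.shiftRight 150 k) 1

/-- The product in the extraspecial group: six coordinates and the centre in the bit of value 64. -/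
noncomputable def qmul (x y : ℕ) : ℕ :=
  Nat.xor (Nat.xor x y) (Nat.shiftLeft (par3 (Nat.land (Nat.land (Nat.shiftRight x 3) y) 7)) 6)

/-- The inverse in the extraspecial group. -/
noncomputable def qinv (x : ℕ) : ℕ := Nat.xor x (qmul x x)

/-- The tables of a candidate: product and inverse in the group of order 168, its action, a cocycle, a tree of
words in the two generators `ga`, `gb`. -/
structure Tab where
  mt : Tbl
  phi : Tbl
  eps : Tbl
  inv : Tbl
  par : Tbl
  ga : ℕ
  gb : ℕ

variable (T : Tab)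

noncomputable def Tab.lmul (a b : ℕ) : ℕ := T.mt.get 8 (Nat.add (Nat.mul 168 a) b)
noncomputable def Tab.act (a q : ℕ) : ℕ := T.phi.get 8 (Nat.add (Nat.mul 128 a) q)
noncomputable def Tab.co (a b : ℕ) : ℕ := Nat.shiftLeft (T.eps.get 1 (Nat.add (Nat.mul 168 a) b)) 6
noncomputable def Tab.linv (a : ℕ) : ℕ := T.inv.get 8 a
noncomputable def Tab.parent (a : ℕ) : ℕ := Nat.shiftRight (T.par.get 16 a) 1
noncomputable def Tab.pgen (a : ℕ) : ℕ :=
  Bool.rec T.gb T.ga (Nat.beq (Nat.land (T.par.get 16 a) 1) 0)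

/-- The code of the element with the given two parts. -/
noncomputable def code (a q : ℕ) : ℕ := Nat.add (Nat.mul 128 a) q

/-- The product of two codes. -/
noncomputable def Tab.mul (x y : ℕ) : ℕ :=
  code (T.lmul (Nat.div x 128) (Nat.div y 128))
    (qmul (Nat.mod x 128) (Nat.xor (T.act (Nat.div x 128) (Nat.mod y 128))
      (T.co (Nat.div x 128) (Nat.div y 128))))

/-- The inverse of a code. -/
noncomputable def Tab.inverse (x : ℕ) : ℕ :=
  code (T.linv (Nat.div x 128))
    (T.act (T.linv (Nat.div x 128)) (qinv (Nat.xor (Nat.mod x 128) (T.co (Nat.div x 128) (T.linv (Nat.div x 128))))))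

/-- Bounds. -/
noncomputable def Tab.rangeOK : Bool :=
  allFrom (fun a => (Nat.blt (T.linv a) 168 && Nat.beq (T.lmul a (T.linv a)) 0) &&
    (allFrom (fun b => Nat.blt (T.lmul a b) 168 && Nat.ble (T.co a b) 64) 0 168 &&
     allFrom (fun q => Nat.blt (T.act a q) 128) 0 128)) 0 168

/-- The neutral element. -/
noncomputable def Tab.oneOK : Bool :=
  allFrom (fun a => Nat.beq (T.lmul a 0) a && (Nat.beq (T.lmul 0 a) a &&
    (Nat.beq (T.co a 0) 0 && Nat.beq (T.co 0 a) 0))) 0 168 &&
  allFrom (fun q => Nat.beq (T.act 0 q) q) 0 128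

/-- The tree of words. -/
noncomputable def Tab.treeOK : Bool :=
  allFrom (fun a => Nat.blt (T.parent a) a && (Nat.beq (T.lmul (T.parent a) (T.pgen a)) a &&
    (Nat.beq (T.pgen a) T.ga || Nat.beq (T.pgen a) T.gb))) 1 167 && (Nat.blt T.ga 168 && Nat.blt T.gb 168)

/-- A generator of the group of order 168 acts as an automorphism. -/
noncomputable def Tab.genHomOK (g : ℕ) : Bool :=
  allFrom (fun x => allFrom (fun y => Nat.beq (T.act g (qmul x y)) (qmul (T.act g x) (T.act g y))) 0 128) 0 128 &&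
    Nat.beq (T.act g 64) 64

/-- The action respects the product with a generator. -/
noncomputable def Tab.actOK (g : ℕ) : Bool :=
  allFrom (fun a => allFrom (fun q => Nat.beq (T.act (T.lmul a g) q) (T.act a (T.act g q))) 0 128) 0 168

/-- Associativity and the cocycle identity at a generator. -/
noncomputable def Tab.assocOK (g : ℕ) : Bool :=
  allFrom (fun a => allFrom (fun b => Nat.beq (T.lmul (T.lmul a b) g) (T.lmul a (T.lmul b g)) &&
    Nat.beq (Nat.xor (T.co a b) (T.co (T.lmul a b) g)) (Nat.xor (T.co a (T.lmul b g)) (T.co b g))) 0 168) 0 168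

/-- What is checked on tables. -/
structure Tab.Valid : Prop where
  range : T.rangeOK = true
  one : T.oneOK = true
  tree : T.treeOK = true
  homA : T.genHomOK T.ga = true
  homB : T.genHomOK T.gb = true
  actA : T.actOK T.ga = true
  actB : T.actOK T.gb = true
  assocA : T.assocOK T.ga = true
  assocB : T.assocOK T.gb = true

/-! ### The extraspecial group -/

noncomputable def qPairsOK : Bool :=
  allFrom (fun x => allFrom (fun y => Nat.blt (qmul x y) 128 &&
    (Nat.beq (Nat.land (Nat.shiftRight (qmul x y) 3) 7) (Nat.xor (Nat.land (Nat.shiftRight x 3) 7)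
        (Nat.land (Nat.shiftRight y 3) 7)) &&
      Nat.beq (Nat.land (qmul x y) 7) (Nat.xor (Nat.land x 7) (Nat.land y 7)))) 0 128) 0 128

theorem qPairs_ok : qPairsOK = true := by decide +kernel

noncomputable def parOK : Bool :=
  allFrom (fun a => allFrom (fun b => allFrom (fun c =>
    Nat.beq (par3 (Nat.land a (Nat.xor b c))) (Nat.xor (par3 (Nat.land a b)) (par3 (Nat.land a c)))) 0 8) 0 8) 0 8

theorem par_ok : parOK = true := by decide +kernel

noncomputable def qOneOK : Bool :=
  allFrom (fun x => Nat.beq (qmul x 0) x && (Nat.beq (qmul 0 x) x && (Nat.beq (qmul x (qinv x)) 0 &&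
    (Nat.blt (qinv x) 128 && (Nat.beq (qmul x 64) (Nat.xor x 64) && Nat.beq (qmul 64 x) (Nat.xor x 64)))))) 0 128

theorem qOne_ok : qOneOK = true := by decide +kernel

theorem beq_eq {a b : ℕ} (h : Nat.beq a b = true) : a = b := Nat.eq_of_beq_eq_true h

theorem of_allFrom {f : ℕ → Bool} {n i : ℕ} (h : allFrom f 0 n = true) (hi : i < n) : f i = true :=
  allFrom_spec h i (Nat.zero_le i) (by omega)

theorem qmul_facts {x y : ℕ} (hx : x < 128) (hy : y < 128) : qmul x y < 128 ∧
    ((qmul x y >>> 3) &&& 7 = ((x >>> 3) &&& 7) ^^^ ((y >>> 3) &&& 7) ∧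
      qmul x y &&& 7 = (x &&& 7) ^^^ (y &&& 7)) := by
  have h0 := qPairs_ok
  unfold qPairsOK at h0
  have h1 := of_allFrom h0 hx
  have h := of_allFrom h1 hy
  simp only [Bool.and_eq_true] at h
  exact ⟨Nat.le_of_ble_eq_true h.1, beq_eq h.2.1, beq_eq h.2.2⟩

theorem par3_xor {a b c : ℕ} (ha : a < 8) (hb : b < 8) (hc : c < 8) :
    par3 (a &&& (b ^^^ c)) = par3 (a &&& b) ^^^ par3 (a &&& c) := by
  have h0 := par_ok
  unfold parOK at h0
  have h1 := of_allFrom h0 ha
  have h2 := of_allFrom h1 hb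
  have h3 := of_allFrom h2 hc
  exact beq_eq h3

theorem and_seven_lt (n : ℕ) : n &&& 7 < 8 :=
  Nat.lt_succ_of_le Nat.and_le_right

theorem qmul_eq (x y : ℕ) : qmul x y = (x ^^^ y) ^^^ (par3 (((x >>> 3) &&& 7) &&& (y &&& 7)) <<< 6) := by
  have h : ((x >>> 3) &&& y) &&& 7 = ((x >>> 3) &&& 7) &&& (y &&& 7) := by
    refine Nat.eq_of_testBit_eq fun i => ?_
    simp only [Nat.testBit_and]
    cases Nat.testBit (x >>> 3) i <;> cases Nat.testBit y i <;> cases Nat.testBit 7 i <;> rfl
  rw [← h]; rfl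

theorem qmul_assoc {x y z : ℕ} (hx : x < 128) (hy : y < 128) (hz : z < 128) :
    qmul (qmul x y) z = qmul x (qmul y z) := by
  rw [qmul_eq (qmul x y) z, qmul_eq x (qmul y z), (qmul_facts hx hy).2.1, (qmul_facts hy hz).2.2,
    par3_xor (and_seven_lt _) (and_seven_lt _) (and_seven_lt _),
    Nat.and_comm (_ ^^^ _) _, par3_xor (and_seven_lt _) (and_seven_lt _) (and_seven_lt _),
    qmul_eq x y, qmul_eq y z, Nat.and_comm (z &&& 7) _, Nat.and_comm (z &&& 7) _,
    Nat.shiftLeft_xor_distrib, Nat.shiftLeft_xor_distrib]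
  ac_rfl

theorem qone_facts {x : ℕ} (hx : x < 128) : qmul x 0 = x ∧ qmul 0 x = x ∧ qmul x (qinv x) = 0 ∧ qinv x < 128 ∧
    qmul x 64 = x ^^^ 64 ∧ qmul 64 x = x ^^^ 64 := by
  have h0 := qOne_ok
  unfold qOneOK at h0
  have h := of_allFrom h0 hx
  simp only [Bool.and_eq_true] at h
  exact ⟨beq_eq h.1, beq_eq h.2.1, beq_eq h.2.2.1, Nat.le_of_ble_eq_true h.2.2.2.1, beq_eq h.2.2.2.2.1,
    beq_eq h.2.2.2.2.2⟩

end CfsgLib.Spor.HeldRecog
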