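/-
The group of a valid table.
-/
import Cfsg.Agent.Lib.Spor.HeldRecog.Model.Basic
import Mathlib.Algebra.Group.MinimalAxioms
import Mathlib.SetTheory.Cardinal.Finite
import Mathlib.Data.Fintype.Card

set_option autoImplicit false

namespace CfsgLib.Spor.HeldRecog

open CfsgLib.Spor.TC

namespace Tab

variable {T : Tab} (h : T.Valid)
include h

theorem Valid.linv_facts {a : ℕ} (ha : a < 168) : T.linv a < 168 ∧ T.lmul a (T.linv a) = 0 := by
  have h0 := h.range
  unfold rangeOK at h0
  have h1 := of_allFrom h0 ha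
  simp only [Bool.and_eq_true] at h1
  exact ⟨Nat.le_of_ble_eq_true h1.1.1, beq_eq h1.1.2⟩

theorem Valid.lmul_lt {a b : ℕ} (ha : a < 168) (hb : b < 168) : T.lmul a b < 168 ∧ T.co a b ≤ 64 := by
  have h0 := h.range
  unfold rangeOK at h0
  have h1 := of_allFrom h0 ha
  simp only [Bool.and_eq_true] at h1
  have h2 := of_allFrom h1.2.1 hb
  simp only [Bool.and_eq_true] at h2
  exact ⟨Nat.le_of_ble_eq_true h2.1, Nat.le_of_ble_eq_true h2.2⟩

theorem Valid.co_cases {a b : ℕ} (ha : a < 168) (hb : b < 168) : T.co a b = 0 ∨ T.co a b = 64 := by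
  have h1 := (h.lmul_lt ha hb).2
  unfold Tab.co at h1 ⊢
  generalize T.eps.get 1 (Nat.add (Nat.mul 168 a) b) = n at h1 ⊢
  have h2 : Nat.shiftLeft n 6 = n * 64 := Nat.shiftLeft_eq n 6
  rw [h2] at h1 ⊢
  omega

theorem Valid.act_lt {a q : ℕ} (ha : a < 168) (hq : q < 128) : T.act a q < 128 := by
  have h0 := h.range
  unfold rangeOK at h0
  have h1 := of_allFrom h0 ha
  simp only [Bool.and_eq_true] at h1
  have h2 := of_allFrom h1.2.2 hq
  exact Nat.le_of_ble_eq_true h2

theorem Valid.lone {a : ℕ} (ha : a < 168) :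
    T.lmul a 0 = a ∧ T.lmul 0 a = a ∧ T.co a 0 = 0 ∧ T.co 0 a = 0 := by
  have h0 := h.one
  unfold oneOK at h0
  simp only [Bool.and_eq_true] at h0
  have h1 := of_allFrom h0.1 ha
  simp only [Bool.and_eq_true] at h1
  exact ⟨beq_eq h1.1, beq_eq h1.2.1, beq_eq h1.2.2.1, beq_eq h1.2.2.2⟩

theorem Valid.act_zero {q : ℕ} (hq : q < 128) : T.act 0 q = q := by
  have h0 := h.one
  unfold oneOK at h0
  simp only [Bool.and_eq_true] at h0
  have h2 := of_allFrom h0.2 hq
  exact beq_eq h2

theorem Valid.gens_lt : T.ga < 168 ∧ T.gb < 168 := by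
  have h0 := h.tree
  unfold treeOK at h0
  simp only [Bool.and_eq_true] at h0
  exact ⟨Nat.le_of_ble_eq_true h0.2.1, Nat.le_of_ble_eq_true h0.2.2⟩

/-- Induction along the tree of words. -/
theorem Valid.induction {P : ℕ → Prop} (h1 : P 0)
    (hstep : ∀ p g, p < 168 → g < 168 → (g = T.ga ∨ g = T.gb) → P p → P (T.lmul p g)) :
    ∀ a, a < 168 → P a := by
  intro a
  induction a using Nat.strong_induction_on with
  | _ a ih =>
    intro ha
    rcases Nat.eq_zero_or_pos a with rfl | hpos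
    · exact h1
    have h0 := h.tree
    unfold treeOK at h0
    simp only [Bool.and_eq_true] at h0
    have h2 := allFrom_spec h0.1 a hpos (by omega)
    simp only [Bool.and_eq_true, Bool.or_eq_true] at h2
    have hp : T.parent a < a := Nat.le_of_ble_eq_true h2.1
    have hg : T.pgen a = T.ga ∨ T.pgen a = T.gb := h2.2.2.imp beq_eq beq_eq
    have hg' : T.pgen a < 168 := by
      rcases hg with e | e <;> rw [e]
      exacts [h.gens_lt.1, h.gens_lt.2]
    rw [← beq_eq h2.2.1]
    exact hstep _ _ (by omega) hg' hg (ih _ hp (by omega))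

theorem Valid.gen_hom {g : ℕ} (hg : g = T.ga ∨ g = T.gb) :
    (∀ x y, x < 128 → y < 128 → T.act g (qmul x y) = qmul (T.act g x) (T.act g y)) ∧ T.act g 64 = 64 := by
  have key : T.genHomOK g = true := by rcases hg with e | e <;> rw [e]; exacts [h.homA, h.homB]
  unfold genHomOK at key
  simp only [Bool.and_eq_true] at key
  refine ⟨fun x y hx hy => ?_, beq_eq key.2⟩
  have h1 := of_allFrom key.1 hx
  have h2 := of_allFrom h1 hy
  exact beq_eq h2

theorem Valid.gen_act {g a q : ℕ} (hg : g = T.ga ∨ g = T.gb) (ha : a < 168) (hq : q < 128) :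
    T.act (T.lmul a g) q = T.act a (T.act g q) := by
  have key : T.actOK g = true := by rcases hg with e | e <;> rw [e]; exacts [h.actA, h.actB]
  unfold actOK at key
  have h1 := of_allFrom key ha
  have h2 := of_allFrom h1 hq
  exact beq_eq h2

theorem Valid.gen_assoc {g a b : ℕ} (hg : g = T.ga ∨ g = T.gb) (ha : a < 168) (hb : b < 168) :
    T.lmul (T.lmul a b) g = T.lmul a (T.lmul b g) ∧
      T.co a b ^^^ T.co (T.lmul a b) g = T.co a (T.lmul b g) ^^^ T.co b g := by
  have key : T.assocOK g = true := by rcases hg with e | e <;> rw [e]; exacts [h.assocA, h.assocB]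
  unfold assocOK at key
  have h1 := of_allFrom key ha
  have h2 := of_allFrom h1 hb
  simp only [Bool.and_eq_true] at h2
  exact ⟨beq_eq h2.1, beq_eq h2.2⟩

theorem Valid.lmul_assoc {a b c : ℕ} (ha : a < 168) (hb : b < 168) (hc : c < 168) :
    T.lmul (T.lmul a b) c = T.lmul a (T.lmul b c) := by
  revert a b
  refine h.induction (P := fun c => ∀ {a b : ℕ}, a < 168 → b < 168 →
    T.lmul (T.lmul a b) c = T.lmul a (T.lmul b c)) ?_ ?_ c hc
  · intro a b ha hb
    rw [(h.lone (h.lmul_lt ha hb).1).1, (h.lone hb).1]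
  · intro p g hp _ hg ih a b ha hb
    rw [← (h.gen_assoc hg (h.lmul_lt ha hb).1 hp).1, ih ha hb, (h.gen_assoc hg ha (h.lmul_lt hb hp).1).1,
      (h.gen_assoc hg hb hp).1]

theorem Valid.act_lmul {a b q : ℕ} (ha : a < 168) (hb : b < 168) (hq : q < 128) :
    T.act (T.lmul a b) q = T.act a (T.act b q) := by
  revert a q
  refine h.induction (P := fun b => ∀ {a q : ℕ}, a < 168 → q < 128 →
    T.act (T.lmul a b) q = T.act a (T.act b q)) ?_ ?_ b hb
  · intro a q ha hq
    rw [(h.lone ha).1, h.act_zero hq]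
  · intro p g hp hgl hg ih a q ha hq
    rw [← (h.gen_assoc hg ha hp).1, h.gen_act hg (h.lmul_lt ha hp).1 hq, ih ha (h.act_lt hgl hq),
      h.gen_act hg hp hq]

theorem Valid.act_hom {a : ℕ} (ha : a < 168) :
    (∀ x y, x < 128 → y < 128 → T.act a (qmul x y) = qmul (T.act a x) (T.act a y)) ∧ T.act a 64 = 64 := by
  refine h.induction (P := fun a =>
    (∀ x y, x < 128 → y < 128 → T.act a (qmul x y) = qmul (T.act a x) (T.act a y)) ∧ T.act a 64 = 64) ?_ ?_ a ha
  · exact ⟨fun x y hx hy => by rw [h.act_zero hx, h.act_zero hy, h.act_zero (qmul_facts hx hy).1],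
      h.act_zero (by omega)⟩
  · intro p g hp hgl hg ⟨i1, i2⟩
    refine ⟨fun x y hx hy => ?_, ?_⟩
    · rw [h.gen_act hg hp (qmul_facts hx hy).1, (h.gen_hom hg).1 x y hx hy,
        i1 _ _ (h.act_lt hgl hx) (h.act_lt hgl hy), h.gen_act hg hp hx, h.gen_act hg hp hy]
    · rw [h.gen_act hg hp (by omega), (h.gen_hom hg).2, i2]

theorem Valid.co_identity {a b c : ℕ} (ha : a < 168) (hb : b < 168) (hc : c < 168) :
    T.co a b ^^^ T.co (T.lmul a b) c = T.co a (T.lmul b c) ^^^ T.co b c := by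
  revert a b
  refine h.induction (P := fun c => ∀ {a b : ℕ}, a < 168 → b < 168 →
    T.co a b ^^^ T.co (T.lmul a b) c = T.co a (T.lmul b c) ^^^ T.co b c) ?_ ?_ c hc
  · intro a b ha hb
    rw [(h.lone hb).1, (h.lone hb).2.2.1, (h.lone (h.lmul_lt ha hb).1).2.2.1]
  · intro p g hp _ hg ih a b ha hb
    have e1 := (h.gen_assoc hg (h.lmul_lt ha hb).1 hp).2
    have e2 := ih ha hb
    have e3 := (h.gen_assoc hg ha (h.lmul_lt hb hp).1).2
    have e4 := (h.gen_assoc hg hb hp).2
    rw [(h.gen_assoc hg hb hp).1] at e3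
    rw [h.lmul_assoc ha hb hp] at e1
    generalize T.co a b = u1 at *
    generalize T.co (T.lmul a b) p = u2 at *
    generalize T.co (T.lmul a (T.lmul b p)) g = u3 at *
    generalize T.co (T.lmul a b) (T.lmul p g) = u4 at *
    generalize T.co p g = u5 at *
    generalize T.co a (T.lmul b p) = u6 at *
    generalize T.co b p = u7 at *
    generalize T.co a (T.lmul b (T.lmul p g)) = u8 at *
    generalize T.co (T.lmul b p) g = u9 at *
    generalize T.co b (T.lmul p g) = u10 at *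
    refine Nat.eq_of_testBit_eq fun i => ?_
    have f1 := congrArg (Nat.testBit · i) e1
    have f2 := congrArg (Nat.testBit · i) e2
    have f3 := congrArg (Nat.testBit · i) e3
    have f4 := congrArg (Nat.testBit · i) e4
    simp only [Nat.testBit_xor] at f1 f2 f3 f4 ⊢
    revert f1 f2 f3 f4
    cases u1.testBit i <;> cases u2.testBit i <;> cases u3.testBit i <;> cases u4.testBit i <;>
      cases u5.testBit i <;> cases u6.testBit i <;> cases u7.testBit i <;> cases u8.testBit i <;>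
      cases u9.testBit i <;> cases u10.testBit i <;> decide

end Tab

/-- A central sign may be moved. -/
theorem qmul_xor_left {x y e : ℕ} (hx : x < 128) (hy : y < 128) (he : e = 0 ∨ e = 64) :
    qmul (x ^^^ e) y = qmul x y ^^^ e := by
  rcases he with rfl | rfl
  · simp
  · rw [← (qone_facts hx).2.2.2.2.2, qmul_assoc (by omega) hx hy, (qone_facts (qmul_facts hx hy).1).2.2.2.2.2]

theorem qmul_xor_right {x y e : ℕ} (hx : x < 128) (hy : y < 128) (he : e = 0 ∨ e = 64) :
    qmul x (y ^^^ e) = qmul x y ^^^ e := by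
  rcases he with rfl | rfl
  · simp
  · rw [← (qone_facts hy).2.2.2.2.1, ← qmul_assoc hx hy (by omega), (qone_facts (qmul_facts hx hy).1).2.2.2.2.1]

theorem xor_sign_lt {x e : ℕ} (hx : x < 128) (he : e = 0 ∨ e = 64) : x ^^^ e < 128 :=
  Nat.xor_lt_two_pow (n := 7) hx (by rcases he with rfl | rfl <;> omega)

theorem code_div {a q : ℕ} (hq : q < 128) : code a q / 128 = a ∧ code a q % 128 = q := by
  show (128 * a + q) / 128 = a ∧ (128 * a + q) % 128 = q
  omega

theorem code_lt {a q : ℕ} (ha : a < 168) (hq : q < 128) : code a q < 21504 := by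
  show 128 * a + q < 21504
  omega

namespace Tab

variable {T : Tab} (h : T.Valid)
include h

theorem Valid.act_xor {a x e : ℕ} (ha : a < 168) (hx : x < 128) (he : e = 0 ∨ e = 64) :
    T.act a (x ^^^ e) = T.act a x ^^^ e := by
  rcases he with rfl | rfl
  · simp
  · rw [← (qone_facts hx).2.2.2.2.1, (h.act_hom ha).1 _ _ hx (by omega), (h.act_hom ha).2,
      (qone_facts (h.act_lt ha hx)).2.2.2.2.1]

theorem Valid.mul_facts {x y : ℕ} (hx : x < 21504) (hy : y < 21504) :
    T.mul x y < 21504 ∧ T.mul x y / 128 = T.lmul (x / 128) (y / 128) ∧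
      T.mul x y % 128 = qmul (x % 128) (T.act (x / 128) (y % 128) ^^^ T.co (x / 128) (y / 128)) := by
  have ha : x / 128 < 168 := by omega
  have hb : y / 128 < 168 := by omega
  have hq : qmul (x % 128) (T.act (x / 128) (y % 128) ^^^ T.co (x / 128) (y / 128)) < 128 :=
    (qmul_facts (by omega) (xor_sign_lt (h.act_lt ha (by omega)) (h.co_cases ha hb))).1
  exact ⟨code_lt (h.lmul_lt ha hb).1 hq, (code_div hq).1, (code_div hq).2⟩

theorem Valid.mul_assoc' {x y w : ℕ} (hx : x < 21504) (hy : y < 21504) (hw : w < 21504) :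
    T.mul (T.mul x y) w = T.mul x (T.mul y w) := by
  obtain ⟨h1, h1a, h1q⟩ := h.mul_facts hx hy
  obtain ⟨h2, h2a, h2q⟩ := h.mul_facts hy hw
  obtain ⟨-, h3a, h3q⟩ := h.mul_facts h1 hw
  obtain ⟨-, h4a, h4q⟩ := h.mul_facts hx h2
  rw [h1a] at h3a h3q
  rw [h2a] at h4a h4q
  rw [h1q] at h3q
  rw [h2q] at h4q
  have ha : x / 128 < 168 := by omega
  have hb : y / 128 < 168 := by omega
  have hc : w / 128 < 168 := by omega
  have hq1 : x % 128 < 128 := by omega
  have hq2 : y % 128 < 128 := by omega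
  have hq3 : w % 128 < 128 := by omega
  have hea := h.lmul_assoc ha hb hc
  have hco := h.co_identity ha hb hc
  have hqq : T.mul (T.mul x y) w % 128 = T.mul x (T.mul y w) % 128 := by
    rw [h3q, h4q]
    rw [qmul_xor_right hq1 (h.act_lt ha hq2) (h.co_cases ha hb),
      qmul_xor_right hq2 (h.act_lt hb hq3) (h.co_cases hb hc),
      h.act_xor ha (qmul_facts hq2 (h.act_lt hb hq3)).1 (h.co_cases hb hc),
      (h.act_hom ha).1 _ _ hq2 (h.act_lt hb hq3), ← h.act_lmul ha hb hq3]
    have p1 := h.act_lt ha hq2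
    have p2 := h.act_lt (h.lmul_lt ha hb).1 hq3
    have p3 := h.co_cases (h.lmul_lt ha hb).1 hc
    have p4 := h.co_cases ha (h.lmul_lt hb hc).1
    rw [qmul_xor_left (qmul_facts hq1 p1).1 (xor_sign_lt p2 p3) (h.co_cases ha hb),
      qmul_xor_right (qmul_facts hq1 p1).1 p2 p3, qmul_assoc hq1 p1 p2,
      qmul_xor_right hq1 (xor_sign_lt (qmul_facts p1 p2).1 (h.co_cases hb hc)) p4,
      qmul_xor_right hq1 (qmul_facts p1 p2).1 (h.co_cases hb hc)]
    rw [Nat.xor_assoc, Nat.xor_assoc, Nat.xor_comm (T.co (T.lmul (x / 128) (y / 128)) (w / 128)), hco,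
      Nat.xor_comm (T.co (x / 128) (T.lmul (y / 128) (w / 128)))]
  omega

theorem Valid.mul_one' {x : ℕ} (hx : x < 21504) : T.mul x 0 = x := by
  obtain ⟨-, ha, hq⟩ := h.mul_facts hx (show (0 : ℕ) < 21504 by omega)
  have h1 : x / 128 < 168 := by omega
  rw [show (0 : ℕ) / 128 = 0 from rfl] at ha hq
  rw [show (0 : ℕ) % 128 = 0 from rfl, (h.lone h1).2.2.1] at hq
  rw [(h.lone h1).1] at ha
  have h2 : T.act (x / 128) 0 = 0 := by
    have e := h.act_xor h1 (show (64 : ℕ) < 128 by omega) (Or.inr rfl)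
    rwa [show (64 : ℕ) ^^^ 64 = 0 from rfl, (h.act_hom h1).2] at e
  rw [h2, show (0 : ℕ) ^^^ 0 = 0 from rfl, (qone_facts (by omega)).1] at hq
  omega

theorem Valid.inverse_facts {x : ℕ} (hx : x < 21504) : T.inverse x < 21504 ∧ T.mul x (T.inverse x) = 0 := by
  have ha : x / 128 < 168 := by omega
  have hq : x % 128 < 128 := by omega
  obtain ⟨hl, hl0⟩ := h.linv_facts ha
  have he := h.co_cases ha hl
  have hi : qinv (x % 128 ^^^ T.co (x / 128) (T.linv (x / 128))) < 128 :=
    (qone_facts (xor_sign_lt hq he)).2.2.2.1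
  have hq' := h.act_lt hl hi
  have hlt : T.inverse x < 21504 := code_lt hl hq'
  refine ⟨hlt, ?_⟩
  obtain ⟨-, h1, h2⟩ := h.mul_facts hx hlt
  have d := code_div (a := T.linv (x / 128)) hq'
  rw [show T.inverse x / 128 = T.linv (x / 128) from d.1] at h1 h2
  rw [show T.inverse x % 128 = _ from d.2] at h2
  rw [← h.act_lmul ha hl hi, hl0, h.act_zero hi, qmul_xor_right hq hi he,
    ← qmul_xor_left hq hi he, (qone_facts (xor_sign_lt hq he)).2.2.1] at h2
  rw [hl0] at h1
  omega

end Tab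

/-- The elements of the group of a table. -/
@[ext] structure Cen (T : Tab) where
  val : ℕ
  lt : val < 21504

/-- The equivalence with the codes. -/
def Cen.equivFin (T : Tab) : Cen T ≃ Fin 21504 :=
  ⟨fun x => ⟨x.val, x.lt⟩, fun i => ⟨i.1, i.2⟩, fun _ => rfl, fun _ => rfl⟩

theorem Cen.natCard (T : Tab) : Nat.card (Cen T) = 21504 := by
  rw [Nat.card_congr (Cen.equivFin T), Nat.card_eq_fintype_card, Fintype.card_fin]

/-- The group of a valid table. -/
@[implicit_reducible]
noncomputable def groupCen {T : Tab} (h : T.Valid) : Group (Cen T) :=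
  letI : Mul (Cen T) := ⟨fun x y => ⟨T.mul x.val y.val, (h.mul_facts x.lt y.lt).1⟩⟩
  letI : One (Cen T) := ⟨⟨0, by omega⟩⟩
  letI : Inv (Cen T) := ⟨fun x => ⟨T.inverse x.val, (h.inverse_facts x.lt).1⟩⟩
  Group.ofRightAxioms (fun x y w => Cen.ext (h.mul_assoc' x.lt y.lt w.lt))
    (fun x => Cen.ext (h.mul_one' x.lt)) (fun x => Cen.ext (h.inverse_facts x.lt).2)

end CfsgLib.Spor.HeldRecog
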