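/-
The candidate centralizer of the table splitTwistTab.
-/
import Cfsg.Agent.Lib.Spor.HeldRecog.Model.Data
import Cfsg.Agent.Lib.Spor.HeldRecog.Model.Group

set_option autoImplicit false
set_option maxRecDepth 100000

namespace CfsgLib.Spor.HeldRecog

theorem splitTwistTab_range : splitTwistTab.rangeOK = true := by decide +kernel
theorem splitTwistTab_one : splitTwistTab.oneOK = true := by decide +kernel
theorem splitTwistTab_tree : splitTwistTab.treeOK = true := by decide +kernel
theorem splitTwistTab_homA : splitTwistTab.genHomOK splitTwistTab.ga = true := by decide +kernel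
theorem splitTwistTab_homB : splitTwistTab.genHomOK splitTwistTab.gb = true := by decide +kernel
theorem splitTwistTab_actA : splitTwistTab.actOK splitTwistTab.ga = true := by decide +kernel
theorem splitTwistTab_actB : splitTwistTab.actOK splitTwistTab.gb = true := by decide +kernel
theorem splitTwistTab_assocA : splitTwistTab.assocOK splitTwistTab.ga = true := by decide +kernel
theorem splitTwistTab_assocB : splitTwistTab.assocOK splitTwistTab.gb = true := by decide +kernel

theorem splitTwistTab_valid : splitTwistTab.Valid :=
  ⟨splitTwistTab_range, splitTwistTab_one, splitTwistTab_tree, splitTwistTab_homA, splitTwistTab_homB, splitTwistTab_actA, splitTwistTab_actB,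
    splitTwistTab_assocA, splitTwistTab_assocB⟩

/-- The group. -/
noncomputable instance instSplitTwistGroup : Group (Cen splitTwistTab) := groupCen splitTwistTab_valid

instance instSplitTwistFinite : Finite (Cen splitTwistTab) := Finite.of_equiv _ (Cen.equivFin splitTwistTab).symm

theorem splitTwist_mul_val (x y : Cen splitTwistTab) : (x * y).val = splitTwistTab.mul x.val y.val := rfl

theorem splitTwist_one_val : (1 : Cen splitTwistTab).val = 0 := rfl

theorem splitTwist_inv_val (x : Cen splitTwistTab) : (x⁻¹).val = splitTwistTab.inverse x.val := rfl

end CfsgLib.Spor.HeldRecog
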