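/-
The candidate centralizer of the table uniTab.
-/
import Cfsg.Agent.Lib.Spor.HeldRecog.Model.Data
import Cfsg.Agent.Lib.Spor.HeldRecog.Model.Group

set_option autoImplicit false
set_option maxRecDepth 100000

namespace CfsgLib.Spor.HeldRecog

theorem uniTab_range : uniTab.rangeOK = true := by decide +kernel
theorem uniTab_one : uniTab.oneOK = true := by decide +kernel
theorem uniTab_tree : uniTab.treeOK = true := by decide +kernel
theorem uniTab_homA : uniTab.genHomOK uniTab.ga = true := by decide +kernel
theorem uniTab_homB : uniTab.genHomOK uniTab.gb = true := by decide +kernel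
theorem uniTab_actA : uniTab.actOK uniTab.ga = true := by decide +kernel
theorem uniTab_actB : uniTab.actOK uniTab.gb = true := by decide +kernel
theorem uniTab_assocA : uniTab.assocOK uniTab.ga = true := by decide +kernel
theorem uniTab_assocB : uniTab.assocOK uniTab.gb = true := by decide +kernel

theorem uniTab_valid : uniTab.Valid :=
  ⟨uniTab_range, uniTab_one, uniTab_tree, uniTab_homA, uniTab_homB, uniTab_actA, uniTab_actB,
    uniTab_assocA, uniTab_assocB⟩

/-- The group. -/
noncomputable instance instUniGroup : Group (Cen uniTab) := groupCen uniTab_valid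

instance instUniFinite : Finite (Cen uniTab) := Finite.of_equiv _ (Cen.equivFin uniTab).symm

theorem uni_mul_val (x y : Cen uniTab) : (x * y).val = uniTab.mul x.val y.val := rfl

theorem uni_one_val : (1 : Cen uniTab).val = 0 := rfl

theorem uni_inv_val (x : Cen uniTab) : (x⁻¹).val = uniTab.inverse x.val := rfl

end CfsgLib.Spor.HeldRecog
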