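/-
The candidate centralizer of the table uniTwistTab.
-/
import Cfsg.Agent.Lib.Spor.HeldRecog.Model.Data
import Cfsg.Agent.Lib.Spor.HeldRecog.Model.Group

set_option autoImplicit false
set_option maxRecDepth 100000

namespace CfsgLib.Spor.HeldRecog

theorem uniTwistTab_range : uniTwistTab.rangeOK = true := by decide +kernel
theorem uniTwistTab_one : uniTwistTab.oneOK = true := by decide +kernel
theorem uniTwistTab_tree : uniTwistTab.treeOK = true := by decide +kernel
theorem uniTwistTab_homA : uniTwistTab.genHomOK uniTwistTab.ga = true := by decide +kernel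
theorem uniTwistTab_homB : uniTwistTab.genHomOK uniTwistTab.gb = true := by decide +kernel
theorem uniTwistTab_actA : uniTwistTab.actOK uniTwistTab.ga = true := by decide +kernel
theorem uniTwistTab_actB : uniTwistTab.actOK uniTwistTab.gb = true := by decide +kernel
theorem uniTwistTab_assocA : uniTwistTab.assocOK uniTwistTab.ga = true := by decide +kernel
theorem uniTwistTab_assocB : uniTwistTab.assocOK uniTwistTab.gb = true := by decide +kernel

theorem uniTwistTab_valid : uniTwistTab.Valid :=
  ⟨uniTwistTab_range, uniTwistTab_one, uniTwistTab_tree, uniTwistTab_homA, uniTwistTab_homB, uniTwistTab_actA, uniTwistTab_actB,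
    uniTwistTab_assocA, uniTwistTab_assocB⟩

/-- The group. -/
noncomputable instance instUniTwistGroup : Group (Cen uniTwistTab) := groupCen uniTwistTab_valid

instance instUniTwistFinite : Finite (Cen uniTwistTab) := Finite.of_equiv _ (Cen.equivFin uniTwistTab).symm

theorem uniTwist_mul_val (x y : Cen uniTwistTab) : (x * y).val = uniTwistTab.mul x.val y.val := rfl

theorem uniTwist_one_val : (1 : Cen uniTwistTab).val = 0 := rfl

theorem uniTwist_inv_val (x : Cen uniTwistTab) : (x⁻¹).val = uniTwistTab.inverse x.val := rfl

end CfsgLib.Spor.HeldRecog
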