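/-
The candidate centralizer of the table splitTab.
-/
import Cfsg.Agent.Lib.Spor.HeldRecog.Model.Data
import Cfsg.Agent.Lib.Spor.HeldRecog.Model.Group

set_option autoImplicit false
set_option maxRecDepth 100000

namespace CfsgLib.Spor.HeldRecog

theorem splitTab_range : splitTab.rangeOK = true := by decide +kernel
theorem splitTab_one : splitTab.oneOK = true := by decide +kernel
theorem splitTab_tree : splitTab.treeOK = true := by decide +kernel
theorem splitTab_homA : splitTab.genHomOK splitTab.ga = true := by decide +kernel
theorem splitTab_homB : splitTab.genHomOK splitTab.gb = true := by decide +kernel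
theorem splitTab_actA : splitTab.actOK splitTab.ga = true := by decide +kernel
theorem splitTab_actB : splitTab.actOK splitTab.gb = true := by decide +kernel
theorem splitTab_assocA : splitTab.assocOK splitTab.ga = true := by decide +kernel
theorem splitTab_assocB : splitTab.assocOK splitTab.gb = true := by decide +kernel

theorem splitTab_valid : splitTab.Valid :=
  ⟨splitTab_range, splitTab_one, splitTab_tree, splitTab_homA, splitTab_homB, splitTab_actA, splitTab_actB,
    splitTab_assocA, splitTab_assocB⟩

/-- The group. -/
noncomputable instance instSplitGroup : Group (Cen splitTab) := groupCen splitTab_valid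

instance instSplitFinite : Finite (Cen splitTab) := Finite.of_equiv _ (Cen.equivFin splitTab).symm

theorem split_mul_val (x y : Cen splitTab) : (x * y).val = splitTab.mul x.val y.val := rfl

theorem split_one_val : (1 : Cen splitTab).val = 0 := rfl

theorem split_inv_val (x : Cen splitTab) : (x⁻¹).val = splitTab.inverse x.val := rfl

end CfsgLib.Spor.HeldRecog
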